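import Mathlib.AlgebraicGeometry.Morphisms.SchemeTheoreticallyDominant
import Mathlib.AlgebraicGeometry.Morphisms.ClosedImmersion
import Mathlib.AlgebraicGeometry.Morphisms.Flat
import Mathlib.RingTheory.Flat.TorsionFree
import Mathlib.RingTheory.Localization.FractionRing

/-!
# Scheme-theoretic closure of closed subschemes of the generic fibre over a Dedekind domain
-/

set_option autoImplicit false
set_option linter.style.haveILetI false
set_option backward.isDefEq.respectTransparency.types false
set_option linter.unusedSectionVars false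

universe u

open CategoryTheory Limits AlgebraicGeometry

namespace Groth.Agent.FlatClosure19

theorem isSchemeTheoreticallyDominant_toImage {X Y : Scheme.{u}} (f : X ⟶ Y) [QuasiCompact f] :
    IsSchemeTheoreticallyDominant f.toImage := by
  refine ⟨Scheme.IdealSheafData.ext_of_iSup_eq_top
    (fun U : Y.affineOpens => ⟨f.imageι ⁻¹ᵁ U, U.2.preimage f.imageι⟩) ?_ fun U => ?_⟩
  · rw [← Scheme.Hom.preimage_iSup, iSup_affineOpens_eq_top, Scheme.Hom.preimage_top]
  · rw [Scheme.Hom.ker_apply, Scheme.IdealSheafData.ideal_bot, Pi.bot_apply, ← RingHom.injective_iff_ker_eq_bot]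
    exact f.toImage_app_injective U

variable (R : Type u) [CommRing R] [IsDedekindDomain R]

local notation "η₀" => Spec.map (CommRingCat.ofHom (algebraMap R (FractionRing R)))

theorem isPreimmersion_gen : IsPreimmersion η₀ := IsPreimmersion.of_isLocalization (nonZeroDivisors R)

theorem flat_gen : Flat η₀ :=
  (HasRingHomProperty.Spec_iff (P := @Flat)).2
    (RingHom.flat_algebraMap_iff.2 (IsLocalization.flat (FractionRing R) (nonZeroDivisors R)))

theorem dominant_gen : IsSchemeTheoreticallyDominant η₀ := by
  haveI : IsDominant η₀ := ⟨PrimeSpectrum.denseRange_comap_iff_ker_le_nilRadical _ |>.2 (by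
    show RingHom.ker (algebraMap R (FractionRing R)) ≤ _
    rw [(RingHom.injective_iff_ker_eq_bot _).1 (IsFractionRing.injective R (FractionRing R))]
    exact bot_le)⟩
  haveI : IsReduced (Spec (CommRingCat.of R)) := inferInstance
  exact .of_isDominant _

/-- A scheme over a Dedekind domain receiving a dominant map from a scheme over the fraction field is flat. -/
theorem flat_of_dominant {X Y : Scheme.{u}} (φ : X ⟶ Y) [IsSchemeTheoreticallyDominant φ] [QuasiCompact φ]
    (g : Y ⟶ Spec (CommRingCat.of R)) (h : X ⟶ Spec (CommRingCat.of (FractionRing R)))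
    (w : φ ≫ g = h ≫ η₀) : Flat g := by
  refine (HasRingHomProperty.iff_of_source_openCover (P := @Flat) Y.affineCover).2 fun i => ?_
  let e := Y.affineCover.f i
  let d := pullback.fst e φ
  haveI : IsSchemeTheoreticallyDominant d := inferInstanceAs (IsSchemeTheoreticallyDominant (pullback.fst e φ))
  let a := (e ≫ g).appTop.hom
  have hsq : d ≫ e ≫ g = (pullback.snd e φ ≫ h) ≫ η₀ := by
    rw [pullback.condition_assoc, w, Category.assoc]
  have hinj : Function.Injective d.appTop := d.app_injective ⊤
  let c := (Scheme.ΓSpecIso (CommRingCat.of R)).inv.hom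
  have hc : Function.Bijective c := ConcreteCategory.bijective_of_isIso (Scheme.ΓSpecIso (CommRingCat.of R)).inv
  suffices hf : (a.comp c).Flat by
    have e2 : a = (a.comp c).comp (Scheme.ΓSpecIso (CommRingCat.of R)).hom.hom := by
      ext x
      show a x = a (c _)
      rw [Iso.hom_inv_id_apply]
    rw [show ((Y.affineCover.f i ≫ g).appTop).hom = a from rfl, e2]
    exact RingHom.Flat.comp (RingHom.Flat.of_bijective
      (ConcreteCategory.bijective_of_isIso (Scheme.ΓSpecIso (CommRingCat.of R)).hom)) hf
  letI : Algebra R Γ(Y.affineCover.X i, ⊤) := (a.comp c).toAlgebra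
  refine (RingHom.flat_algebraMap_iff (R := R) (S := Γ(Y.affineCover.X i, ⊤))).2 ?_
  rw [IsDedekindDomain.flat_iff_torsion_eq_bot, eq_bot_iff]
  rintro x ⟨⟨r, hr⟩, hrx⟩
  rw [Submodule.mem_bot]
  refine hinj ?_
  rw [map_zero]
  have hu : IsUnit (d.appTop (a (c r))) := by
    have h2 := congrArg (fun m => m.appTop (c r)) hsq
    simp only [Scheme.Hom.comp_appTop, CommRingCat.comp_apply] at h2
    refine h2 ▸ ?_
    refine IsUnit.map _ (IsUnit.map _ ?_)
    have h3 := ConcreteCategory.congr_hom (Scheme.ΓSpecIso_inv_naturality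
      (CommRingCat.ofHom (algebraMap R (FractionRing R)))) r
    refine (show (Scheme.ΓSpecIso (CommRingCat.of (FractionRing R))).inv (algebraMap R (FractionRing R) r) =
      (η₀).appTop (c r) from h3) ▸ IsUnit.map _ ?_
    exact isUnit_iff_ne_zero.2 (IsFractionRing.to_map_ne_zero_of_mem_nonZeroDivisors hr)
  refine hu.mul_right_eq_zero.1 ?_
  rw [← map_mul, show a (c r) * x = 0 from hrx, map_zero]

variable {HK G : Scheme.{u}} (f : HK ⟶ G) [QuasiCompact f] (g : G ⟶ Spec (CommRingCat.of R))

/-- Morphisms from flat schemes whose generic fibre factors factor through the closure. -/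
theorem exists_lift_image {X : Scheme.{u}} (p : X ⟶ Spec (CommRingCat.of R)) [Flat p] (x : X ⟶ G)
    (q : pullback p η₀ ⟶ HK) (hq : q ≫ f = pullback.fst p η₀ ≫ x) :
    ∃ l : X ⟶ f.image, l ≫ f.imageι = x := by
  haveI := dominant_gen R
  have hle : f.imageι.ker ≤ x.ker := by
    rw [Scheme.Hom.imageι, Scheme.IdealSheafData.ker_subschemeι]
    calc f.ker ≤ (q ≫ f).ker := Scheme.Hom.le_ker_comp _ _
      _ = x.ker := by rw [hq, Scheme.Hom.ker_comp, (pullback.fst p η₀).ker_eq_bot,
            Scheme.IdealSheafData.map_bot]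
  exact ⟨IsClosedImmersion.lift f.imageι x hle, IsClosedImmersion.lift_fac _ _ _⟩

end Groth.Agent.FlatClosure19
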